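import Groth.Agent.NmpFinite.Basic
import Groth.Agent.SchTorsor.Props
import Groth.Agent.SchTorsor.NormalExt
import Groth.Agent.AlgSpDec.MonoCriterion
import Groth.Agent.GrpSchLib.AntiAffineHom

/-!
# Generic sections of étale torsors over normal integral schemes
-/

noncomputable section

universe u

open CategoryTheory CategoryTheory.Limits AlgebraicGeometry TopologicalSpace MonoidalCategory CartesianMonoidalCategory

set_option linter.style.haveILetI false

namespace Groth.Agent.H9EtGen

/-- A morphism from a field landing on the point of a preimmersion from a field factors through it. -/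
theorem factor_point {K K' : Type u} [Field K] [Field K'] {C : Scheme.{u}}
    (b : Spec (CommRingCat.of K) ⟶ C) [IsPreimmersion b] (a : Spec (CommRingCat.of K') ⟶ C)
    (h : a (IsLocalRing.closedPoint K') = b (IsLocalRing.closedPoint K)) :
    ∃ c : Spec (CommRingCat.of K') ⟶ Spec (CommRingCat.of K), c ≫ b = a := by
  haveI : Surjective (pullback.fst a b) := ⟨fun q => by
    obtain ⟨r, hr, -⟩ := Scheme.Pullback.exists_preimage_pullback (f := a) (g := b) q (IsLocalRing.closedPoint K)
      (by rw [Subsingleton.elim (α := PrimeSpectrum K') q (IsLocalRing.closedPoint K'), h])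
    exact ⟨r, hr⟩⟩
  haveI : IsClosedImmersion (pullback.fst a b) := .of_isPreimmersion _ (by
    rw [Set.range_eq_univ.2 (pullback.fst a b).surjective]; exact isClosed_univ)
  haveI : IsIso (pullback.fst a b) := isIso_of_isClosedImmersion_of_surjective _
  exact ⟨inv (pullback.fst a b) ≫ pullback.snd a b, by rw [Category.assoc, ← pullback.condition, IsIso.inv_hom_id_assoc]⟩

theorem isPreimmersion_of_comp_left {X Y Z : Scheme.{u}} (f : X ⟶ Y) (g : Y ⟶ Z) [IsPreimmersion (f ≫ g)] :
    IsPreimmersion f := by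
  have h := (f ≫ g).isEmbedding
  rw [Scheme.Hom.comp_base, TopCat.coe_comp] at h
  refine { isEmbedding := Topology.IsEmbedding.of_comp f.continuous g.continuous h, stalkMap_surjective := fun z => ?_ }
  have hs := (f ≫ g).stalkMap_surjective z
  rw [Scheme.Hom.stalkMap_comp] at hs
  exact Function.Surjective.of_comp hs

section Normal

variable {S W : Scheme.{u}} [IsIntegral S] (hS : Pi1.IsNormalScheme S) (h : W ⟶ S) [Etale h]

include hS

theorem exists_gen (y : W) : ∃! η : W, h η = genericPoint S ∧ η ⤳ y := by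
  haveI : IsDomain (W.presheaf.stalk y) := (NmpFinite.isNormalScheme_of_smooth hS h y).1
  let g₀ : W := (W.fromSpecStalk y).base ⟨⊥, Ideal.isPrime_bot⟩
  have key : ∀ η : W, h η = genericPoint S → η ⤳ y → η = g₀ := by
    intro η hη hηy
    have hmem : η ∈ Set.range (W.fromSpecStalk y).base := by
      rw [Scheme.range_fromSpecStalk]
      exact hηy
    obtain ⟨p, rfl⟩ := hmem
    have hs : g₀ ⤳ (W.fromSpecStalk y).base p :=
      ((PrimeSpectrum.le_iff_specializes (⟨⊥, Ideal.isPrime_bot⟩ : PrimeSpectrum _) p).1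
        (bot_le (a := p.asIdeal))).map (W.fromSpecStalk y).continuous
    have hs' : h g₀ = genericPoint S := by
      refine (((genericPoint_specializes (h g₀))).antisymm ?_).eq.symm
      exact hη ▸ hs.map h.continuous
    have hd := (h.isDiscrete_preimage_singleton (genericPoint S)).to_subtype
    let a : ↥(h ⁻¹' {genericPoint S}) := ⟨g₀, hs'⟩
    let b : ↥(h ⁻¹' {genericPoint S}) := ⟨_, hη⟩
    exact (congrArg Subtype.val ((subtype_specializes_iff a b).2 hs : a ⤳ b).eq).symm
  obtain ⟨η, h1, h2⟩ := (Flat.generalizingMap h) (genericPoint_specializes (h y))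
  exact ⟨η, ⟨h2, h1⟩, fun η' h' => (key η' h'.1 h'.2).trans (key η h2 h1).symm⟩

theorem isOpen_closure (η : W) (hη : h η = genericPoint S) : IsOpen (closure ({η} : Set W)) := by
  rw [isOpen_iff_forall_mem_open]
  intro y hy
  obtain ⟨U, hU, hyU, -⟩ := exists_isAffineOpen_mem_and_subset (x := h y) (U := ⊤) trivial
  obtain ⟨O, hO, hyO, hOU⟩ := exists_isAffineOpen_mem_and_subset (x := y) (U := h ⁻¹ᵁ U) hyU
  let F : Set W := ((O : Set W) ∩ h ⁻¹' {genericPoint S}) \ {η}
  have hfin : F.Finite := by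
    haveI : IsAffine (O : Scheme.{u}) := hO
    haveI : IsAffine (U : Scheme.{u}) := hU
    refine Set.Finite.subset ?_ Set.diff_subset
    let g := h.resLE U O hOU
    have hg : g ≫ U.ι = O.ι ≫ h := Scheme.Hom.resLE_comp_ι h hOU
    haveI : QuasiCompact g := inferInstance
    haveI : Etale g := by
      refine MorphismProperty.of_postcomp (W := @Etale) (W' := @Etale) g U.ι inferInstance ?_
      rw [hg]; infer_instance
    have hgU : genericPoint S ∈ U := SchTorsor.genericPoint_mem U hyU
    refine ((g.finite_preimage_singleton ⟨genericPoint S, hgU⟩).image O.ι).subset ?_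
    rintro z ⟨hzO, hz⟩
    refine ⟨⟨z, hzO⟩, ?_, rfl⟩
    apply U.ι.isOpenEmbedding.injective
    rw [← Scheme.Hom.comp_apply, hg]
    exact hz
  refine ⟨(O : Set W) \ ⋃ z ∈ F, closure {z}, ?_, O.2.sdiff (hfin.isClosed_biUnion fun _ _ => isClosed_closure), hyO, ?_⟩
  · intro w ⟨hwO, hw⟩
    obtain ⟨η', ⟨h1, h2⟩, -⟩ := exists_gen hS h w
    by_cases he : η' = η
    · subst he
      exact h2.mem_closure
    · exact absurd (Set.mem_biUnion (show η' ∈ F from ⟨⟨h2.mem_open O.2 hwO, h1⟩, he⟩) h2.mem_closure) hw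
  · intro hy'
    obtain ⟨z, hz, hzy⟩ := Set.mem_iUnion₂.1 hy'
    exact hz.2 ((exists_gen hS h y).unique ⟨hz.1.2, specializes_iff_mem_closure.2 hzy⟩
      ⟨hη, specializes_iff_mem_closure.2 hy⟩)

theorem isIntegral_closure (η : W) (hη : h η = genericPoint S) :
    IsIntegral ((⟨closure {η}, isOpen_closure hS h η hη⟩ : W.Opens) : Scheme.{u}) := by
  let D : W.Opens := ⟨closure {η}, isOpen_closure hS h η hη⟩
  haveI : ∀ x : W, _root_.IsReduced (W.presheaf.stalk x) := fun x => by
    haveI := (NmpFinite.isNormalScheme_of_smooth hS h x).1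
    infer_instance
  haveI : IsReduced W := isReduced_of_isReduced_stalk W
  haveI : IrreducibleSpace (D : Scheme.{u}) := by
    refine (Subtype.irreducibleSpace ?_ : IrreducibleSpace ↥(closure {η} : Set W))
    exact isIrreducible_singleton.closure
  haveI : IsReduced (D : Scheme.{u}) := isReduced_of_isOpenImmersion D.ι
  exact (isIntegral_iff_irreducibleSpace_and_isReduced _).2 ⟨inferInstance, inferInstance⟩

/-- A separated étale scheme over a normal integral base which is generically one rational point. -/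
theorem isIso_of_generic {C : Scheme.{u}} (g : C ⟶ S) [Etale g] [IsSeparated g] [Surjective g] {K : Type u} [Field K]
    (x : Spec (CommRingCat.of K) ⟶ C) [IsPreimmersion (x ≫ g)]
    (hx : ∀ c, g c = genericPoint S → c = x (IsLocalRing.closedPoint K)) : IsIso g := by
  haveI : IsPreimmersion x := isPreimmersion_of_comp_left x g
  haveI : Etale (pullback.fst g g ≫ g) := inferInstance
  haveI : ∀ z : ↥(pullback g g), _root_.IsReduced ((pullback g g).presheaf.stalk z) := fun z => by
    haveI := (NmpFinite.isNormalScheme_of_smooth hS (pullback.fst g g ≫ g) z).1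
    infer_instance
  haveI : IsReduced (pullback g g) := isReduced_of_isReduced_stalk _
  let p₁ : Over.mk (pullback.fst g g ≫ g) ⟶ Over.mk g := Over.homMk (pullback.fst g g) rfl
  let p₂ : Over.mk (pullback.fst g g ≫ g) ⟶ Over.mk g := Over.homMk (pullback.snd g g) pullback.condition.symm
  haveI : IsSeparated (Over.mk g).hom := ‹IsSeparated g›
  haveI : IsClosedImmersion (equalizer.ι p₁ p₂).left := inferInstance
  haveI : IsReduced (Over.mk (pullback.fst g g ≫ g)).left := ‹IsReduced (pullback g g)›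
  let P := pullback g g
  have hcl := (equalizer.ι p₁ p₂).left.isClosedEmbedding.isClosed_range
  haveI : Surjective (equalizer.ι p₁ p₂).left := ⟨fun z => by
    obtain ⟨η', ⟨hη', hη'z⟩, -⟩ := exists_gen hS (pullback.fst g g ≫ g) z
    refine hη'z.mem_closed hcl ?_
    let a := P.fromSpecResidueField η'
    let pt : ↥(Spec (P.residueField η')) := IsLocalRing.closedPoint _
    have ha : a pt = η' := Scheme.fromSpecResidueField_apply η' pt
    have h1 : (pullback.fst g g) η' = x (IsLocalRing.closedPoint K) := hx _ hη'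
    have h2 : (pullback.snd g g) η' = x (IsLocalRing.closedPoint K) :=
      hx _ (((Scheme.Hom.comp_apply _ _ _).symm.trans (congr($(pullback.condition (f := g) (g := g)) η')).symm).trans hη')
    obtain ⟨c₁, hc₁⟩ := factor_point (K' := P.residueField η') x (a ≫ pullback.fst g g)
      (by rw [Scheme.Hom.comp_apply]; exact (congrArg _ ha).trans h1)
    obtain ⟨c₂, hc₂⟩ := factor_point (K' := P.residueField η') x (a ≫ pullback.snd g g)
      (by rw [Scheme.Hom.comp_apply]; exact (congrArg _ ha).trans h2)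
    have hc : c₁ = c₂ := by
      rw [← cancel_mono (x ≫ g), reassoc_of% hc₁, reassoc_of% hc₂, pullback.condition]
    let q : Over.mk (a ≫ pullback.fst g g ≫ g) ⟶ Over.mk (pullback.fst g g ≫ g) := Over.homMk a rfl
    have hq : q ≫ p₁ = q ≫ p₂ := Over.OverMorphism.ext (hc₁.symm.trans ((congrArg (· ≫ x) hc).trans hc₂))
    refine ⟨(equalizer.lift q hq).left pt, ?_⟩
    exact (congr($(congrArg CommaMorphism.left (equalizer.lift_ι q hq)) pt)).trans ha⟩
  haveI : IsIso (equalizer.ι p₁ p₂).left := isIso_of_isClosedImmersion_of_surjective _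
  have hp : pullback.fst g g = pullback.snd g g := by
    rw [← cancel_epi (equalizer.ι p₁ p₂).left]
    exact congr($(equalizer.condition p₁ p₂).left)
  haveI : Mono g := ⟨fun {Z} a b hab => by
    rw [← pullback.lift_fst a b hab, hp, pullback.lift_snd]⟩
  haveI : IsOpenImmersion g := IsOpenImmersion.of_flat_of_mono g
  exact (isIso_iff_isOpenImmersion_and_surjective g).2 ⟨inferInstance, inferInstance⟩

end Normal

section Torsor

variable {k : Type u} [Field k] {G : Over (Spec (CommRingCat.of k))} [GrpObj G] [Etale G.hom]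
  {S : Scheme.{u}} [IsIntegral S] (hS : Pi1.IsNormalScheme S) (s : S ⟶ Spec (CommRingCat.of k))
  (E : NonAbH1.TorsorSch (Red.bc s G) Scheme.fppfPrecoverage)

theorem etale_separated : Etale E.X.hom ∧ IsSeparated E.X.hom := by
  have h' : NonAbH1.IsTorsorFor Scheme.fpqcPrecoverage E.act :=
    ⟨E.isTorsor.1, E.isTorsor.2.choose, Scheme.fppfPrecoverage_le_fpqcPrecoverage _ E.isTorsor.2.choose_spec.1,
      E.isTorsor.2.choose_spec.2⟩
  haveI := EtFound.fpqc_isSeparated.{u}
  haveI : IsSeparated G.hom := GrpSchLib.AntiAffine.isSeparated_grp G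
  exact ⟨SchTorsor.torsor_property @Etale h' (MorphismProperty.pullback_snd G.hom s inferInstance),
    SchTorsor.torsor_property @IsSeparated h' (MorphismProperty.pullback_snd G.hom s inferInstance)⟩

include hS in
theorem exists_mem_fibre {K : Type u} [Field K] (x : Spec (CommRingCat.of K) ⟶ E.X.left) [IsPreimmersion (x ≫ E.X.hom)]
    (hx : E.X.hom (x (IsLocalRing.closedPoint K)) = genericPoint S) (e : E.X.left) :
    ∃ c ∈ closure {x (IsLocalRing.closedPoint K)}, E.X.hom c = E.X.hom e := by
  haveI := (etale_separated s E).1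
  obtain ⟨d, ⟨hd, hde⟩, -⟩ := exists_gen hS E.X.hom e
  let D : E.X.left.Opens := ⟨closure {d}, isOpen_closure hS E.X.hom d hd⟩
  haveI : IsIntegral (D : Scheme.{u}) := isIntegral_closure hS E.X.hom d hd
  have hD : Pi1.IsNormalScheme (D : Scheme.{u}) := NmpFinite.isNormalScheme_of_smooth hS (D.ι ≫ E.X.hom)
  let δ := genericPoint (D : Scheme.{u})
  have hδ : D.ι δ = d := by
    have hdD : d ∈ D := subset_closure rfl
    let d' : ↥(D : Scheme.{u}) := ⟨d, hdD⟩
    have h1 : D.ι δ ⤳ D.ι d' := (genericPoint_specializes (α := ↥(D : Scheme.{u})) d').map D.ι.continuous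
    have h2 : d ⤳ D.ι δ := specializes_iff_mem_closure.2 δ.2
    exact (h1.antisymm h2).eq
  let a : Spec (CommRingCat.of (D : Scheme.{u}).functionField) ⟶ E.X.left := (D : Scheme.{u}).fromSpecStalk δ ≫ D.ι
  let pt : ↥(Spec (CommRingCat.of (D : Scheme.{u}).functionField)) := IsLocalRing.closedPoint _
  have hapt : a pt = d := by
    rw [Scheme.Hom.comp_apply]
    exact (congrArg D.ι Scheme.fromSpecStalk_closedPoint).trans hδ
  obtain ⟨c, hc⟩ := factor_point (x ≫ E.X.hom) (a ≫ E.X.hom) (by
    show E.X.hom (a pt) = E.X.hom (x (IsLocalRing.closedPoint K))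
    exact ((congrArg E.X.hom hapt).trans hd).trans hx.symm)
  let T₀ : Over S := Over.mk (a ≫ E.X.hom)
  let T : Over S := Over.mk (D.ι ≫ E.X.hom)
  let j : T₀ ⟶ T := Over.homMk ((D : Scheme.{u}).fromSpecStalk δ) (Category.assoc _ _ _).symm
  let aT : T₀ ⟶ E.X := Over.homMk a rfl
  let xT : T₀ ⟶ E.X := Over.homMk (c ≫ x) ((Category.assoc _ _ _).trans hc)
  obtain ⟨g₀, hg₀⟩ := SchTorsor.exists_div E.isTorsor.1 xT aT
  let γ₀ : Spec (CommRingCat.of (D : Scheme.{u}).functionField) ⟶ G.left := g₀.left ≫ pullback.fst G.hom s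
  haveI : DiscreteTopology ↥G.left := AlgSpDec.discreteTopology_of_etale_field G.hom
  let U : G.left.Opens := ⟨{γ₀ pt}, isOpen_discrete _⟩
  haveI : Finite ↥(U : Scheme.{u}) := Set.finite_coe_iff.2 (Set.finite_singleton (γ₀ pt))
  haveI : IsFinite (U.ι ≫ G.hom) := AlgSpDec.isFinite_of_etale_field (U.ι ≫ G.hom)
  have hr : Set.range γ₀ ⊆ Set.range U.ι := by
    rintro _ ⟨q, rfl⟩
    rw [Scheme.Opens.range_ι]
    exact congrArg γ₀ (Subsingleton.elim (α := PrimeSpectrum _) q pt)
  let γ₁ := IsOpenImmersion.lift U.ι γ₀ hr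
  have hγ₁ : γ₁ ≫ U.ι = γ₀ := IsOpenImmersion.lift_fac _ _ _
  have hw : γ₀ ≫ G.hom = (a ≫ E.X.hom) ≫ s := by
    show (g₀.left ≫ pullback.fst G.hom s) ≫ G.hom = _
    rw [Category.assoc, pullback.condition, ← Category.assoc]
    exact congrArg (· ≫ s) (Over.w g₀)
  let r : (D : Scheme.{u}) ⟶ Spec (CommRingCat.of k) := (D.ι ≫ E.X.hom) ≫ s
  obtain ⟨σ, hσ, hσδ⟩ := SchTorsor.exists_section_of_normal hD (pullback.snd (U.ι ≫ G.hom) r)
    (pullback.lift γ₁ ((D : Scheme.{u}).fromSpecStalk δ) (by
      rw [← Category.assoc, hγ₁, hw]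
      simp only [r, a, Category.assoc]))
    (pullback.lift_snd _ _ _)
  let γ : T ⟶ Red.bc s G := Over.homMk
    (pullback.lift (σ ≫ pullback.fst (U.ι ≫ G.hom) r ≫ U.ι) (D.ι ≫ E.X.hom) (by
      rw [Category.assoc, Category.assoc, pullback.condition, ← Category.assoc σ, hσ, Category.id_comp]))
    (pullback.lift_snd _ _ _)
  let τ : T ⟶ E.X := CartesianMonoidalCategory.lift γ (Over.homMk D.ι rfl) ≫ E.act.act
  have hjγ : j ≫ γ = g₀ := by
    refine Over.OverMorphism.ext (pullback.hom_ext ?_ ?_)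
    · show ((D : Scheme.{u}).fromSpecStalk δ ≫ pullback.lift (σ ≫ pullback.fst (U.ι ≫ G.hom) r ≫ U.ι) _ _) ≫
        pullback.fst G.hom s = _
      rw [Category.assoc, pullback.lift_fst, reassoc_of% hσδ, pullback.lift_fst_assoc]
      exact hγ₁
    · exact (Over.w (j ≫ γ)).trans (Over.w g₀).symm
  have hjτ : j ≫ τ = xT := by
    refine Eq.trans ?_ hg₀
    show j ≫ CartesianMonoidalCategory.lift γ (Over.homMk D.ι rfl) ≫ E.act.act = _
    rw [← Category.assoc, comp_lift, hjγ]
    rfl
  refine ⟨τ.left ⟨e, specializes_iff_mem_closure.1 hde⟩, ?_, ?_⟩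
  · have h1 : τ.left δ ⤳ τ.left ⟨e, specializes_iff_mem_closure.1 hde⟩ :=
      (genericPoint_specializes _).map τ.left.continuous
    have h2 : τ.left δ = x (IsLocalRing.closedPoint K) := by
      have h3 := congr($(congrArg CommaMorphism.left hjτ) pt)
      refine (congrArg τ.left (Scheme.fromSpecStalk_closedPoint (x := δ)).symm).trans (h3.trans ?_)
      exact congrArg x (Subsingleton.elim (α := PrimeSpectrum K) _ _)
    rw [h2] at h1
    exact h1.mem_closure
  · exact congr($(Over.w τ) ⟨e, specializes_iff_mem_closure.1 hde⟩)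

include hS in
theorem exists_section (x : Spec (S.residueField (genericPoint S)) ⟶ E.X.left)
    (hx : x ≫ E.X.hom = S.fromSpecResidueField (genericPoint S)) :
    ∃ σ : S ⟶ E.X.left, σ ≫ E.X.hom = 𝟙 S ∧ S.fromSpecResidueField (genericPoint S) ≫ σ = x := by
  obtain ⟨hE₁, hE₂⟩ := etale_separated s E
  let pt : ↥(Spec (S.residueField (genericPoint S))) := IsLocalRing.closedPoint _
  haveI : IsPreimmersion (x ≫ E.X.hom) := by rw [hx]; infer_instance
  have hxg : E.X.hom (x pt) = genericPoint S := by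
    rw [← Scheme.Hom.comp_apply, hx]
    exact Scheme.fromSpecResidueField_apply _ pt
  let C : E.X.left.Opens := ⟨closure {x pt}, isOpen_closure hS E.X.hom (x pt) hxg⟩
  haveI : Surjective E.X.hom := by
    have h' : NonAbH1.IsTorsorFor Scheme.fpqcPrecoverage E.act :=
      ⟨E.isTorsor.1, E.isTorsor.2.choose, Scheme.fppfPrecoverage_le_fpqcPrecoverage _ E.isTorsor.2.choose_spec.1,
        E.isTorsor.2.choose_spec.2⟩
    exact SchTorsor.surjective_hom h'
  haveI : Surjective (C.ι ≫ E.X.hom) := ⟨fun y => by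
    obtain ⟨e, rfl⟩ := E.X.hom.surjective y
    obtain ⟨c, hc, hce⟩ := exists_mem_fibre hS s E (K := S.residueField (genericPoint S)) x hxg e
    exact ⟨⟨c, hc⟩, hce⟩⟩
  have hr : Set.range x ⊆ Set.range C.ι := by
    rintro _ ⟨q, rfl⟩
    rw [Scheme.Opens.range_ι]
    exact subset_closure (congrArg x (Subsingleton.elim (α := PrimeSpectrum _) q pt))
  let xC := IsOpenImmersion.lift C.ι x hr
  have hxC : xC ≫ C.ι = x := IsOpenImmersion.lift_fac _ _ _
  haveI : IsPreimmersion (xC ≫ C.ι ≫ E.X.hom) := by rw [reassoc_of% hxC]; assumption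
  haveI : IsIso (C.ι ≫ E.X.hom) := by
    refine @isIso_of_generic _ _ hS _ (C.ι ≫ E.X.hom) _ _ _ (S.residueField (genericPoint S)) _ xC ‹_› fun c hc => C.ι.isOpenEmbedding.injective ?_
    refine ((exists_gen hS E.X.hom (C.ι c)).unique ⟨hc, specializes_rfl⟩ ⟨hxg, specializes_iff_mem_closure.2 c.2⟩).trans ?_
    exact (congr($(hxC) pt)).symm
  refine ⟨inv (C.ι ≫ E.X.hom) ≫ C.ι, by simp, ?_⟩
  rw [← hx, ← hxC, Category.assoc xC, Category.assoc xC, IsIso.hom_inv_id_assoc]

end Torsor

end Groth.Agent.H9EtGen
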